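import Groth.Agent.KFlatLib.Scheme.Exact
import Groth.Agent.KFlatLib.Scheme.Pullback
import Groth.Agent.AssLib.OpenRestrict
import Groth.Agent.FlatCxLib.BoundedFlat
import Groth.Prelude.Def_FlatMod2
import Mathlib.Algebra.Category.ModuleCat.ChangeOfRings
import Mathlib.Algebra.Category.ModuleCat.Kernels
import Mathlib.Algebra.Homology.Embedding.CochainComplex
import Mathlib.Algebra.Homology.HomotopyCategory.MappingCone

/-!
# Flatness over the base of the terms of truncations
-/

universe u

open CategoryTheory CategoryTheory.Limits AlgebraicGeometry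

namespace Groth.Agent.PerfLocus7

variable {X S : Scheme.{u}} (f : X ⟶ S)

/-- The stalk as a module over the stalk of the base. -/
noncomputable abbrev stalkOver (x : X) : X.Modules ⥤ ModuleCat.{u} (S.presheaf.stalk (f.base x)) :=
  DerSch.stalkFunctor X x ⋙ ModuleCat.restrictScalars (f.stalkMap x).hom

lemma isFlatOverAt_iff' (M : X.Modules) (x : X) :
    FlatMod.IsFlatOverAt f M x ↔
      Module.Flat (S.presheaf.stalk (f.base x)) ((stalkOver f x).obj M) :=
  Iff.rfl

lemma isFlatOver_of_iso {M N : X.Modules} (e : M ≅ N) (h : FlatMod.IsFlatOver f M) :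
    FlatMod.IsFlatOver f N := fun x => (isFlatOverAt_iff' f N x).2
  (haveI := (isFlatOverAt_iff' f M x).1 (h x)
   Module.Flat.of_linearEquiv ((stalkOver f x).mapIso e).symm.toLinearEquiv)

lemma isFlatOver_of_isZero {M : X.Modules} (h : IsZero M) : FlatMod.IsFlatOver f M := fun x =>
  (isFlatOverAt_iff' f M x).2
    (haveI := ModuleCat.subsingleton_of_isZero ((stalkOver f x).map_isZero h)
     inferInstance)

lemma isFlatOver_biprod {M N : X.Modules} (hM : FlatMod.IsFlatOver f M)
    (hN : FlatMod.IsFlatOver f N) : FlatMod.IsFlatOver f (M ⊞ N) := fun x =>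
  (isFlatOverAt_iff' f _ x).2
    (haveI := (isFlatOverAt_iff' f M x).1 (hM x)
     haveI := (isFlatOverAt_iff' f N x).1 (hN x)
     haveI : Module.Flat (S.presheaf.stalk (f.base x))
        (ModuleCat.of (S.presheaf.stalk (f.base x))
          ((stalkOver f x).obj M × (stalkOver f x).obj N)) :=
      FlatCxLib.flat_of_flat_sub_quotient LinearMap.inl_injective
        (Function.Exact.inl_snd (R := S.presheaf.stalk (f.base x)) (M := (stalkOver f x).obj M)
          (N := (stalkOver f x).obj N)) LinearMap.snd_surjective
     haveI := preservesBinaryBiproduct_of_preservesBinaryProduct (stalkOver f x) (X := M) (Y := N)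
     Module.Flat.of_linearEquiv
      ((stalkOver f x).mapBiprod M N ≪≫ ModuleCat.biprodIsoProd _ _).toLinearEquiv)

/-- Flatness over the base of the module does not depend on the chart. -/
lemma isFlatOver_restrict {U : Scheme.{u}} (j : U ⟶ X) [IsOpenImmersion j] {M : X.Modules}
    (h : FlatMod.IsFlatOver f M) : FlatMod.IsFlatOver (j ≫ f) (M.restrict j) := fun z => by
  obtain ⟨e, he⟩ := AssLib.exists_semilinear_restrict j M z
  letI := FlatMod.moduleStalkOver f M (j.base z)
  letI : Module (S.presheaf.stalk (f.base (j.base z))) ((M.restrict j).presheaf.stalk z) :=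
    FlatMod.moduleStalkOver (j ≫ f) (M.restrict j) z
  have hh : Module.Flat (S.presheaf.stalk (f.base (j.base z))) (M.presheaf.stalk (j.base z)) :=
    h (j.base z)
  let e' : (M.restrict j).presheaf.stalk z ≃ₗ[S.presheaf.stalk (f.base (j.base z))]
      M.presheaf.stalk (j.base z) :=
    { e with
      map_smul' := fun a m => by
        have h1 := he ((f.stalkMap (j.base z)).hom a) m
        refine Eq.trans ?_ h1
        show e (((j ≫ f).stalkMap z).hom a • (show (M.restrict j).presheaf.stalk z from m)) = _
        rw [Scheme.Hom.stalkMap_comp]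
        rfl }
  have hres : Module.Flat (S.presheaf.stalk (f.base (j.base z))) ((M.restrict j).presheaf.stalk z) :=
    Module.Flat.of_linearEquiv e'
  exact hres

end Groth.Agent.PerfLocus7
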