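import Groth.Agent.KFlatLib.Perfect.DLocal
import Groth.Agent.KFlatLib.Perfect.Corollaries
import Groth.Prelude.Def_DCoh3
import Groth.Agent.QCoh.LocFree

/-!
# Relative tor dimension of perfect complexes
-/

universe u

open CategoryTheory CategoryTheory.Limits AlgebraicGeometry

attribute [local instance] HasDerivedCategory.standard

namespace Groth.Agent.PerfLocus7

variable {X S : Scheme.{u}}

/-- A finite locally free module is flat over the base of a flat morphism. -/
theorem isFlatOver_of_isFinLocFree (f : X ⟶ S) [Flat f] {H : X.Modules}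
    (hH : FlatMod.IsFinLocFree H) : FlatMod.IsFlatOver f H := fun x => by
  show FlatMod.IsFlatOverAt f H x
  unfold FlatMod.IsFlatOverAt
  letI := FlatMod.moduleStalkOver f H x
  letI : Algebra (S.presheaf.stalk (f.base x)) (X.presheaf.stalk x) :=
    (f.stalkMap x).hom.toAlgebra
  haveI : IsScalarTower (S.presheaf.stalk (f.base x)) (X.presheaf.stalk x) (H.presheaf.stalk x) :=
    IsScalarTower.of_algebraMap_smul fun _ _ => rfl
  haveI : Module.Flat (S.presheaf.stalk (f.base x)) (X.presheaf.stalk x) := Flat.stalkMap f x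
  haveI := QCoh.free_stalk_of_isFinLocFree hH x
  exact Module.Flat.trans _ (X.presheaf.stalk x) _

/-- A perfect object is locally of finite relative tor dimension over a flat base. -/
theorem locHasFiniteRelTorDim_of_isPerfect (f : X ⟶ S) [Flat f] {E : DCoh.D X}
    (hE : DCoh.IsPerfect E) : DCoh.LocHasFiniteRelTorDim f E := fun x => by
  obtain ⟨V, hx, hV⟩ := hE x
  obtain ⟨P₀, hP₀, ⟨e₀⟩⟩ := hV (DerivedCategory.Q.objPreimage E) ⟨DerivedCategory.Q.objObjPreimageIso E⟩
  obtain ⟨⟨a, b, hab⟩, hf⟩ := hP₀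
  refine ⟨V, a, b, hx, fun F' ⟨e'⟩ => ⟨P₀, hab, fun i => isFlatOver_of_isFinLocFree (V.ι ≫ f) (hf i), ⟨?_⟩⟩⟩
  exact e₀.symm ≪≫ ((KFlatLib.rhoQ V.ι).app _).symm ≪≫
    (KFlatLib.rho V.ι).mapIso (DerivedCategory.Q.objObjPreimageIso E ≪≫ e'.symm) ≪≫
    (KFlatLib.rhoQ V.ι).app F'

end Groth.Agent.PerfLocus7
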