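import Groth.Agent.KFlatLib.Perfect.Top
import Groth.Agent.KFlatLib.Perfect.BettiCor
import Groth.Agent.AssLib.OpenRestrict
import Mathlib.Algebra.Category.ModuleCat.Projective

/-!
The locus where all cohomology sheaves of a perfect complex have finite free stalks.
-/

set_option linter.style.haveILetI false

universe u

open CategoryTheory CategoryTheory.Limits AlgebraicGeometry Module TopologicalSpace Opposite

attribute [local instance] HasDerivedCategory.standard

namespace Groth.Agent.PerfLocus7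

open Groth.Agent.KFlatLib

/-- Finite free modules transfer along semilinear additive equivalences. -/
lemma freeFinite_of_semilinear {S R : Type*} [CommRing S] [CommRing R] {M N : Type*}
    [AddCommGroup M] [Module S M] [AddCommGroup N] [Module R N] (τ : S ≃+* R) (e : M ≃+ N)
    (h : ∀ s m, e (s • m) = τ s • e m) (hM : Module.Free S M ∧ Module.Finite S M) :
    Module.Free R N ∧ Module.Finite R N := by
  haveI := hM.1
  haveI := hM.2
  let b := Module.Free.chooseBasis S M
  let f : N ≃+ (Module.Free.ChooseBasisIndex S M → R) :=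
    (e.symm.trans b.equivFun.toAddEquiv).trans (AddEquiv.piCongrRight fun _ => τ.toAddEquiv)
  have hf : ∀ (r : R) n, f (r • n) = r • f n := by
    intro r n
    have h1 : e.symm (r • n) = τ.symm r • e.symm n := e.injective (by simp [h])
    funext i
    simp [f, h1]
  let F : N ≃ₗ[R] (Module.Free.ChooseBasisIndex S M → R) := f.toLinearEquiv hf
  exact ⟨Module.Free.of_equiv F.symm, Module.Finite.equiv F.symm⟩

/-- Stalks of a restriction to an open. -/
lemma freeFinite_stalk_restrict_iff {U X : Scheme.{u}} (j : U ⟶ X) [IsOpenImmersion j]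
    (M : X.Modules) (z : U) :
    (Module.Free (U.presheaf.stalk z) ((DerSch.stalkFunctor U z).obj (M.restrict j) : Type u) ∧
      Module.Finite (U.presheaf.stalk z) ((DerSch.stalkFunctor U z).obj (M.restrict j) : Type u)) ↔
    (Module.Free (X.presheaf.stalk (j.base z)) (M.presheaf.stalk (j.base z)) ∧
      Module.Finite (X.presheaf.stalk (j.base z)) (M.presheaf.stalk (j.base z))) := by
  obtain ⟨e, he⟩ := AssLib.exists_semilinear_restrict j M z
  let τ : X.presheaf.stalk (j.base z) ≃+* U.presheaf.stalk z :=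
    (asIso (j.stalkMap z)).commRingCatIsoToRingEquiv
  constructor
  · intro hh
    refine freeFinite_of_semilinear τ.symm (e : ((DerSch.stalkFunctor U z).obj (M.restrict j) : Type u) ≃+ _)
      (fun s m => ?_) hh
    have := he (τ.symm s) m
    rwa [show (j.stalkMap z).hom (τ.symm s) = s from τ.apply_symm_apply s] at this
  · intro hh
    refine freeFinite_of_semilinear τ (e.symm : _ ≃+ ((DerSch.stalkFunctor U z).obj (M.restrict j) : Type u))
      (fun s m => ?_) hh
    apply e.injective
    refine (e.apply_symm_apply _).trans ?_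
    exact ((he s (e.symm m)).trans (congrArg (s • ·) (e.apply_symm_apply m))).symm

variable {X : Scheme.{u}}

lemma exists_free_near_of_flat_stalk {p q : ℕ} (d : FlatMod.freeMod X p ⟶ FlatMod.freeMod X q)
    (x : X) (hflat : Module.Flat (X.presheaf.stalk x) ((DerSch.stalkFunctor X x).obj (cokernel d) : Type u)) :
    ∃ (W : X.Opens) (r : ℕ), x ∈ W ∧
      Nonempty ((cokernel d).restrict W.ι ≅ FlatMod.freeMod (W : Scheme.{u}) r) := by
  let S := DerSch.stalkFunctor X x
  let C := cokernel d
  let π := cokernel.π d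
  have hπ : Function.Surjective (S.map π) := (ModuleCat.epi_iff_surjective _).1 inferInstance
  have hq : Module.Finite (X.presheaf.stalk x) (S.obj (FlatMod.freeMod X q) : Type u) := by
    haveI : Module.Finite (X.presheaf.stalk x) (S.obj (Coh.structureModule X) : Type u) :=
      Module.Finite.equiv ((stalkUnitEquiv x).trans ((stalkToPIso x).app _).toLinearEquiv.symm)
    haveI : Module.Finite (X.presheaf.stalk x)
        (DirectSum (Fin q) fun _ : Fin q => (S.obj (Coh.structureModule X) : Type u)) :=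
      Module.Finite.equiv (DirectSum.linearEquivFunOnFintype _ (Fin q) _).symm
    exact Module.Finite.equiv (PreservesCoproduct.iso S (fun _ : Fin q => Coh.structureModule X) ≪≫
      ModuleCat.coprodIsoDirectSum _).toLinearEquiv.symm
  haveI : Module.Finite (X.presheaf.stalk x) (S.obj C : Type u) :=
    Module.Finite.of_surjective (S.map π).hom hπ
  haveI : Module.Flat (X.presheaf.stalk x) (S.obj C : Type u) := hflat
  haveI : Module.Free (X.presheaf.stalk x) (S.obj C : Type u) := Module.free_of_flat_of_isLocalRing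
  let b := Module.finBasis (X.presheaf.stalk x) (S.obj C : Type u)
  choose v hv using fun i => hπ (b i)
  let Mr : ModuleCat.{u} (X.presheaf.stalk x) :=
    S.obj (FlatMod.freeMod X (Module.finrank (X.presheaf.stalk x) (S.obj C : Type u)))
  let s : S.obj C ⟶ Mr :=
    ModuleCat.ofHom (b.constr ℕ (M' := (Mr : Type u)) fun i => eGerm (X := X) x i)
  have hs : ∀ i, s (b i) = eGerm x i := fun i =>
    b.constr_basis ℕ (M' := (Mr : Type u)) (fun i => eGerm (X := X) x i) i
  obtain ⟨U₁, hU₁, h₁⟩ := exists_of_germs (FlatMod.freeMod X q) x v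
  obtain ⟨U₂, hU₂, h₂⟩ := exists_of_germs (FlatMod.freeMod X
    (Module.finrank (X.presheaf.stalk x) (S.obj C : Type u))) x
    (fun j : Fin q => s (S.map π (eGerm x j)))
  have hW : x ∈ U₁ ⊓ U₂ := ⟨hU₁, hU₂⟩
  obtain ⟨u, hu⟩ := h₁ _ hW inf_le_left
  obtain ⟨δ, hδ⟩ := h₂ _ hW inf_le_right
  let R := Scheme.Modules.restrictFunctor (U₁ ⊓ U₂).ι
  have hδ' : stalkAt hW δ = S.map π ≫ s := free_stalk_ext hδ
  have hu' : stalkAt hW u ≫ S.map π ≫ s = 𝟙 _ := free_stalk_ext fun i => by
    change s (S.map π (stalkAt hW u (eGerm x i))) = eGerm x i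
    rw [hu i, hv i, hs i]
  have e₁ : stalkAt hW (R.map d ≫ δ) = 0 := by
    rw [stalkAt_comp, stalkAt_map, hδ', ← Category.assoc, ← Functor.map_comp, cokernel.condition,
      Functor.map_zero, zero_comp]
  have e₂ : stalkAt hW (u ≫ δ - 𝟙 _) = 0 := by
    rw [stalkAt_sub, stalkAt_comp, hδ', stalkAt_id, hu', sub_self]
  have e₃ : stalkAt hW (δ ≫ u ≫ R.map π - R.map π) = 0 := by
    rw [stalkAt_sub, stalkAt_comp, stalkAt_comp, stalkAt_map, hδ', sub_eq_zero]
    have hsu : s ≫ stalkAt hW u ≫ S.map π = 𝟙 _ := ModuleCat.hom_ext (b.ext fun i => by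
      change S.map π (stalkAt hW u (s (b i))) = b i
      rw [hs i, hu i, hv i])
    rw [Category.assoc, hsu, Category.comp_id]
  obtain ⟨W₁, hx₁, z₁⟩ := exists_resHom_eq_zero _ hW e₁
  obtain ⟨W₂, hx₂, z₂⟩ := exists_resHom_eq_zero _ hW e₂
  obtain ⟨W₃, hx₃, z₃⟩ := exists_resHom_eq_zero _ hW e₃
  let V := (U₁ ⊓ U₂) ⊓ (W₁ ⊓ W₂ ⊓ W₃)
  have l : V ≤ U₁ ⊓ U₂ := inf_le_left
  have z₁' := z₁ V l (inf_le_right.trans (inf_le_left.trans inf_le_left))
  have z₂' := z₂ V l (inf_le_right.trans (inf_le_left.trans inf_le_right))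
  have z₃' := z₃ V l (inf_le_right.trans inf_le_right)
  rw [resHom_comp, resHom_map] at z₁'
  rw [resHom_sub, resHom_comp, resHom_id, sub_eq_zero] at z₂'
  rw [resHom_sub, resHom_comp, resHom_comp, resHom_map, sub_eq_zero] at z₃'
  let T := Scheme.Modules.restrictFunctor V.ι
  let hc := CokernelCofork.mapIsColimit _ (cokernelIsCokernel d) T
  let e : C.restrict V.ι ⟶ (FlatMod.freeMod X _).restrict V.ι :=
    hc.desc (CokernelCofork.ofπ (resHom l δ) z₁')
  have he : T.map π ≫ e = resHom l δ :=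
    hc.fac (CokernelCofork.ofπ (resHom l δ) z₁') WalkingParallelPair.one
  haveI : Epi (T.map π) := inferInstance
  let i₀ : C.restrict V.ι ≅ (FlatMod.freeMod X _).restrict V.ι :=
    Iso.mk e (resHom l u ≫ T.map π)
      (by
        rw [← cancel_epi (T.map π), reassoc_of% he, z₃']
        exact (Category.comp_id _).symm)
      (by rw [Category.assoc, he, z₂'])
  exact ⟨V, _, ⟨hW, ⟨hx₁, hx₂⟩, hx₃⟩, ⟨i₀ ≪≫
    (Scheme.Modules.restrictFunctorIsoPullback V.ι).app _ ≪≫ pullFreeIso _ _⟩⟩

section Generic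

variable {A : Type*} [Category A] [Abelian A] (K : CochainComplex A ℤ) (k : ℤ)

lemma fromOpcycles_π : K.fromOpcycles k (k + 1) ≫ cokernel.π (K.d k (k + 1)) = 0 := by
  rw [← cancel_epi (K.pOpcycles k), HomologicalComplex.p_fromOpcycles_assoc, cokernel.condition,
    comp_zero]

/-- The map to the image. -/
noncomputable def toIm : K.opcycles k ⟶ kernel (cokernel.π (K.d k (k + 1))) :=
  kernel.lift _ _ (fromOpcycles_π K k)

lemma toIm_ι : toIm K k ≫ kernel.ι _ = K.fromOpcycles k (k + 1) := kernel.lift_ι _ _ _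

instance epi_toIm : Epi (toIm K k) := by
  have hS : (ShortComplex.mk _ _ (fromOpcycles_π K k)).Exact := by
    refine ShortComplex.exact_of_g_is_cokernel _ (CokernelCofork.IsColimit.ofπ _ _
      (fun t ht => cokernel.desc _ t (by rw [← HomologicalComplex.p_fromOpcycles, Category.assoc, ht, comp_zero]))
      (fun t ht => cokernel.π_desc _ _ _) (fun t ht m hm => ?_))
    rw [← cancel_epi (cokernel.π (K.d k (k + 1))), hm, cokernel.π_desc]
  exact (ShortComplex.exact_iff_epi_kernel_lift _).1 hS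

lemma homologyι_toIm : K.homologyι k ≫ toIm K k = 0 := by
  rw [← cancel_mono (kernel.ι _), Category.assoc, toIm_ι, zero_comp, HomologicalComplex.homologyι_comp_fromOpcycles]

/-- Homology is the kernel of the map to the image. -/
noncomputable def homologyIsKernelToIm :
    IsLimit (KernelFork.ofι (K.homologyι k) (homologyι_toIm K k)) :=
  isKernelOfComp (kernel.ι (cokernel.π (K.d k (k + 1)))) (K.fromOpcycles k (k + 1))
    (K.homologyIsKernel k (k + 1) (by simp)) (homologyι_toIm K k) (toIm_ι K k)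

lemma shortExact_toIm : (ShortComplex.mk _ _ (homologyι_toIm K k)).ShortExact :=
  ShortComplex.ShortExact.mk' (ShortComplex.exact_of_f_is_kernel _ (homologyIsKernelToIm K k))
    inferInstance (epi_toIm K k)

lemma shortExact_im : (ShortComplex.mk _ _ (kernel.condition (cokernel.π (K.d k (k + 1))))).ShortExact :=
  ShortComplex.ShortExact.mk' (ShortComplex.exact_kernel _) inferInstance inferInstance

/-- The cokernel of the incoming differential. -/
noncomputable def opcyclesIso : K.opcycles (k + 1) ≅ cokernel (K.d k (k + 1)) :=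
  ((cokernelIsCokernel (K.d k (k + 1))).coconePointUniqueUpToIso
    (K.opcyclesIsCokernel k (k + 1) (by simp))).symm

variable {B : Type*} [Category B] [Abelian B] (S : A ⥤ B) [S.PreservesZeroMorphisms]
  [PreservesFiniteLimits S] [PreservesFiniteColimits S]

lemma projective_opcycles (h₁ : Projective (S.obj (K.homology k))) (h₂ : Projective (S.obj (K.X (k + 1))))
    (h₃ : Projective (S.obj (cokernel (K.d k (k + 1))))) : Projective (S.obj (K.opcycles k)) := by
  haveI : S.Additive := Functor.additive_of_preserves_binary_products S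
  have hT := (shortExact_im K k).map_of_exact S
  have hT' := (shortExact_toIm K k).map_of_exact S
  haveI := h₁
  haveI := h₂
  haveI : Projective ((ShortComplex.mk _ _ (kernel.condition (cokernel.π (K.d k (k + 1))))).map S).X₃ := h₃
  haveI := hT.epi_g
  haveI := hT.mono_f
  have hs := hT.splittingOfProjective
  haveI : Projective ((ShortComplex.mk _ _ (homologyι_toIm K k)).map S).X₃ :=
    (Retract.mk _ hs.r hs.f_r : Retract (S.obj (kernel (cokernel.π (K.d k (k + 1))))) (S.obj (K.X (k + 1)))).projective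
  have hs' := hT'.splittingOfProjective
  haveI : Projective ((ShortComplex.mk _ _ (homologyι_toIm K k)).map S).X₁ := h₁
  have hp : Projective (((ShortComplex.mk _ _ (homologyι_toIm K k)).map S).X₁ ⊞
      ((ShortComplex.mk _ _ (homologyι_toIm K k)).map S).X₃) := inferInstance
  exact Projective.of_iso hs'.isoBinaryBiproduct.symm hp

end Generic

/-- Cohomology of a complex with finite locally free terms and cokernels. -/
lemma isFinLocFree_homology {U : Scheme.{u}} (P : CochainComplex U.Modules ℤ)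
    (hX : ∀ i, FlatMod.IsFinLocFree (P.X i))
    (hC : ∀ i, FlatMod.IsFinLocFree (cokernel (P.d i (i + 1)))) (k : ℤ) :
    FlatMod.IsFinLocFree (P.homology k) := by
  have h₁ : FlatMod.IsFinLocFree (P.opcycles k) := by
    obtain ⟨i, rfl⟩ : ∃ i, i + 1 = k := ⟨k - 1, by omega⟩
    exact H23.PullPush.isFinLocFree_of_iso (opcyclesIso P i).symm (hC i)
  have h₂ := isFinLocFree_kernel (cokernel.π (P.d k (k + 1))) (hX (k + 1)) (hC k)
  exact H23.PullPush.isFinLocFree_of_iso
    (IsLimit.conePointUniqueUpToIso (kernelIsKernel (toIm P k)) (homologyIsKernelToIm P k))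
    (isFinLocFree_kernel (toIm P k) h₁ h₂)

lemma isFinLocFree_restrict_of_fac {A B : Scheme.{u}} (g : A ⟶ B) [IsOpenImmersion g] (l : B ⟶ X)
    [IsOpenImmersion l] (k : A ⟶ X) [IsOpenImmersion k] (h : g ≫ l = k) {M : X.Modules}
    (hM : FlatMod.IsFinLocFree (M.restrict l)) : FlatMod.IsFinLocFree (M.restrict k) :=
  H23.PullPush.isFinLocFree_of_iso (restrict₂Iso g l k h M)
    (H23.PullPush.isFinLocFree_of_iso ((Scheme.Modules.restrictFunctorIsoPullback g).symm.app _)
      (isFinLocFree_pullback g hM))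

/-- The good locus. -/
def goodSet (E : DCoh.D X) : Set X :=
  {x : X | ∀ i : ℤ, Module.Free (X.presheaf.stalk x) ((DCoh.HD E i).presheaf.stalk x) ∧
    Module.Finite (X.presheaf.stalk x) ((DCoh.HD E i).presheaf.stalk x)}

lemma subset_goodSet (E : DCoh.D X) (W : X.Opens)
    (h : ∀ i : ℤ, FlatMod.IsFinLocFree ((DCoh.HD E i).restrict W.ι)) : (W : Set X) ⊆ goodSet E := by
  intro x hx i
  obtain ⟨V, n, hV, ⟨e⟩⟩ := h i ⟨x, hx⟩
  let e' := (restrict₂Iso V.ι W.ι (V.ι ≫ W.ι) rfl (DCoh.HD E i)).symm ≪≫ e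
  have hff : Module.Free ((V : Scheme.{u}).presheaf.stalk ⟨⟨x, hx⟩, hV⟩) ((DerSch.stalkFunctor (V : Scheme.{u}) ⟨⟨x, hx⟩, hV⟩).obj ((DCoh.HD E i).restrict (V.ι ≫ W.ι)) : Type u) ∧
      Module.Finite ((V : Scheme.{u}).presheaf.stalk ⟨⟨x, hx⟩, hV⟩) ((DerSch.stalkFunctor (V : Scheme.{u}) ⟨⟨x, hx⟩, hV⟩).obj ((DCoh.HD E i).restrict (V.ι ≫ W.ι)) : Type u) := by
    haveI := Module.Free.of_basis (eBasis (X := (V : Scheme.{u})) ⟨⟨x, hx⟩, hV⟩ n)
    haveI := Module.Finite.of_basis (eBasis (X := (V : Scheme.{u})) ⟨⟨x, hx⟩, hV⟩ n)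
    let l := ((DerSch.stalkFunctor (V : Scheme.{u}) ⟨⟨x, hx⟩, hV⟩).mapIso e').toLinearEquiv
    exact ⟨Module.Free.of_equiv l.symm, Module.Finite.equiv l.symm⟩
  exact (freeFinite_stalk_restrict_iff (V.ι ≫ W.ι) _ _).1 hff

lemma exists_nhd_of_mem_goodSet {E : DCoh.D X} (hE : DCoh.IsPerfect E) {x : X} (hx : x ∈ goodSet E) :
    ∃ V : X.Opens, x ∈ V ∧ ∀ i : ℤ, FlatMod.IsFinLocFree ((DCoh.HD E i).restrict V.ι) := by
  obtain ⟨U, j, _, ⟨y, rfl⟩, P, a, b, hab, hfree, ⟨eE⟩⟩ := exists_free_rep hE x
  choose n e using hfree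
  let st := DerSch.stalkFunctor U y
  haveI hph : st.PreservesHomology :=
    Functor.preservesHomology_of_map_exact _ fun S hS => (exact_iff_stalk S).1 hS y
  haveI : PreservesFiniteLimits st := st.preservesFiniteLimits_of_preservesHomology
  haveI : PreservesFiniteColimits st := st.preservesFiniteColimits_of_preservesHomology
  let eH : ∀ k, P.homology k ≅ (DCoh.HD E k).restrict j := fun k =>
    ((DerivedCategory.homologyFunctorFactors _ k).app P).symm ≪≫
      (DerivedCategory.homologyFunctor _ k).mapIso eE ≪≫ hdRhoIso j E k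
  have hH : ∀ k, Projective (st.obj (P.homology k)) := fun k => by
    obtain ⟨h₁, -⟩ := (freeFinite_stalk_restrict_iff j (DCoh.HD E k) y).2 (hx k)
    haveI hf : Module.Free (U.presheaf.stalk y) (st.obj (P.homology k) : Type u) :=
      Module.Free.of_equiv (st.mapIso (eH k)).toLinearEquiv.symm
    exact (IsProjective.iff_projective _).1
      (Module.Projective.of_free (R := U.presheaf.stalk y) (P := (st.obj (P.homology k) : Type u)))
  have hXp : ∀ k, Projective (st.obj (P.X k)) := fun k => by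
    haveI := Module.Free.of_basis (eBasis (X := U) y (n k))
    haveI hf : Module.Free (U.presheaf.stalk y) (st.obj (P.X k) : Type u) :=
      Module.Free.of_equiv (st.mapIso (e k).some).toLinearEquiv.symm
    exact (IsProjective.iff_projective _).1
      (Module.Projective.of_free (R := U.presheaf.stalk y) (P := (st.obj (P.X k) : Type u)))
  have hz : ∀ k, (k + 1 < a ∨ b < k + 1) → IsZero (cokernel (P.d k (k + 1))) := fun k hk => by
    rw [IsZero.iff_id_eq_zero, ← cancel_epi (cokernel.π (P.d k (k + 1)))]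
    exact (hab _ hk).eq_of_src _ _
  have hC : ∀ (m : ℕ) k, b ≤ k + m → Projective (st.obj (cokernel (P.d k (k + 1)))) := by
    intro m
    induction m with
    | zero => exact fun k hk => (st.map_isZero (hz k (Or.inr (by omega)))).projective
    | succ m ih =>
      intro k hk
      exact Projective.of_iso (st.mapIso (opcyclesIso P k))
        (projective_opcycles P (k + 1) st (hH _) (hXp _) (ih (k + 1) (by omega)))
  have hloc : ∀ k, ∃ W : U.Opens, y ∈ W ∧
      FlatMod.IsFinLocFree ((cokernel (P.d k (k + 1))).restrict W.ι) := by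
    intro k
    let d' := (e k).some.inv ≫ P.d k (k + 1) ≫ (e (k + 1)).some.hom
    let ec : cokernel d' ≅ cokernel (P.d k (k + 1)) :=
      cokernel.mapIso d' (P.d k (k + 1)) (e k).some.symm (e (k + 1)).some.symm (by simp [d'])
    haveI hp := Projective.of_iso (st.mapIso ec).symm (hC (b - k).toNat k (by omega))
    haveI : Module.Projective (U.presheaf.stalk y) (st.obj (cokernel d') : Type u) :=
      (IsProjective.iff_projective _).2 hp
    obtain ⟨W, r, hyW, ⟨eW⟩⟩ := exists_free_near_of_flat_stalk d' y Module.Flat.of_projective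
    exact ⟨W, hyW, H23.PullPush.isFinLocFree_of_iso
      (eW.symm ≪≫ (Scheme.Modules.restrictFunctor W.ι).mapIso ec) fun z => isFinLocFree_freeMod _ z⟩
  choose W hyW hW using hloc
  let W₀ : U.Opens := (Finset.Icc (a - 1) b).inf W
  have hy₀ : y ∈ W₀ := Finset.inf_induction (s := Finset.Icc (a - 1) b) (f := W)
    (p := fun U => y ∈ U) trivial (fun _ h₁ _ h₂ => ⟨h₁, h₂⟩) fun i _ => hyW i
  let R := Scheme.Modules.restrictFunctor W₀.ι
  haveI : R.PreservesHomology := inferInstance
  let P' := (R.mapHomologicalComplex (ComplexShape.up ℤ)).obj P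
  have hX' : ∀ i, FlatMod.IsFinLocFree (P'.X i) := fun i =>
    isFinLocFree_restrict W₀ (H23.PullPush.isFinLocFree_of_iso (e i).some.symm fun z => isFinLocFree_freeMod _ z)
  have hC' : ∀ i, FlatMod.IsFinLocFree (cokernel (P'.d i (i + 1))) := by
    intro i
    refine H23.PullPush.isFinLocFree_of_iso (PreservesCokernel.iso R (P.d i (i + 1))) ?_
    by_cases hi : i ∈ Finset.Icc (a - 1) b
    · exact isFinLocFree_restrict_of_fac (U.homOfLE (Finset.inf_le hi)) (W i).ι W₀.ι
        (U.homOfLE_ι _) (hW i)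
    · exact isFinLocFree_of_isZero (R.map_isZero (hz i (by simp at hi; omega)))
  let k₀ := W₀.ι ≫ j
  refine ⟨k₀.opensRange, ⟨⟨y, hy₀⟩, rfl⟩, fun i => ?_⟩
  refine isFinLocFree_restrict_of_fac (rangeHom k₀) k₀ k₀.opensRange.ι (rangeHom_fac k₀) ?_
  exact H23.PullPush.isFinLocFree_of_iso
    ((P.sc i).mapHomologyIso R ≪≫ R.mapIso (eH i) ≪≫ restrict₂Iso W₀.ι j k₀ rfl _)
    (isFinLocFree_homology P' hX' hC' i)

theorem exists_goodLocus (E : DCoh.D X) (hE : DCoh.IsPerfect E) :
    ∃ U : X.Opens, (U : Set X) = goodSet E ∧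
      (∀ i : ℤ, FlatMod.IsFinLocFree ((DCoh.HD E i).restrict U.ι)) ∧
      ∀ W : X.Opens, (∀ i : ℤ, FlatMod.IsFinLocFree ((DCoh.HD E i).restrict W.ι)) → W ≤ U := by
  choose V hV hVf using fun x : goodSet E => exists_nhd_of_mem_goodSet hE x.2
  have hopen : IsOpen (goodSet E) := isOpen_iff_forall_mem_open.2 fun x hx =>
    ⟨V ⟨x, hx⟩, subset_goodSet E _ (hVf _), (V ⟨x, hx⟩).2, hV _⟩
  refine ⟨⟨goodSet E, hopen⟩, rfl, fun i => isFinLocFree_of_restrict fun z => ?_,
    fun W hW => subset_goodSet E W hW⟩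
  let U₀ : X.Opens := ⟨goodSet E, hopen⟩
  let V' : (U₀ : Scheme.{u}).Opens := U₀.ι ⁻¹ᵁ V ⟨z.1, z.2⟩
  refine ⟨V', hV ⟨z.1, z.2⟩, H23.PullPush.isFinLocFree_of_iso (restrict₂Iso V'.ι U₀.ι (V'.ι ≫ U₀.ι) rfl _).symm ?_⟩
  have hr : Set.range (V'.ι ≫ U₀.ι).base ⊆ Set.range (V ⟨z.1, z.2⟩).ι.base := by
    rintro _ ⟨w, rfl⟩
    rw [Scheme.Opens.range_ι]
    exact w.2
  exact isFinLocFree_restrict_of_fac (IsOpenImmersion.lift _ _ hr) _ _
    (IsOpenImmersion.lift_fac _ _ hr) (hVf _ i)

end Groth.Agent.PerfLocus7
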