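import Groth.Agent.PerfLocus7.RelFlatBasic
import Groth.Agent.H9Misc.DRingTorTriangle
import Groth.Agent.KFlatLib.Perfect.DLocal
import Groth.Agent.KFlatLib.Scheme.KFlat
import Groth.Agent.KFlatLib.Scheme.StalkCx
import Groth.Prelude.Def_DCoh3

/-!
# Finite relative tor dimension: pointwise criterion, triangles, retracts
-/

set_option linter.style.haveILetI false

universe u

open CategoryTheory CategoryTheory.Limits AlgebraicGeometry CategoryTheory.Pretriangulated

attribute [local instance] HasDerivedCategory.standard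

namespace Groth.Agent.PerfLocus7

open Groth.Agent.KFlatLib Groth.Agent.H9Misc

variable {X S : Scheme.{u}} (f : X ⟶ S)

/-- The derived stalk functor over the base. -/
noncomputable abbrev stalkD (x : X) : DCoh.D X ⥤ Dual.D (S.presheaf.stalk (f.base x)) :=
  (stalkOver f x).mapDerivedCategory

/-- Tor amplitude over the base at a point. -/
def RelTorAt (a b : ℤ) (x : X) (K : DCoh.D X) : Prop :=
  DRing.HasTorAmplitudeIn (S.presheaf.stalk (f.base x)) a b ((stalkD f x).obj K)

variable {f}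

lemma relTorAt_of_rep {a b : ℤ} {K : DCoh.D X} (h : DCoh.HasRelFlatAmplitudeIn f a b K) (x : X) :
    RelTorAt f a b x K := by
  obtain ⟨E, hz, hf, ⟨e⟩⟩ := h
  exact ⟨((stalkOver f x).mapHomologicalComplex _).obj E,
    fun i hi => (stalkOver f x).map_isZero (hz i hi),
    fun i => (isFlatOverAt_iff' f _ x).1 (hf i x),
    ⟨((stalkOver f x).mapDerivedCategoryFactors.app E).symm ≪≫ (stalkD f x).mapIso e⟩⟩

lemma RelTorAt.of_retract {a b : ℤ} {x : X} {K L : DCoh.D X} (h : Retract K L)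
    (hL : RelTorAt f a b x L) : RelTorAt f a b x K :=
  DRingTor.of_retract ((stalkD f x).map h.i) ((stalkD f x).map h.r)
    (by rw [← Functor.map_comp, h.retract]; exact (stalkD f x).map_id _) hL

lemma RelTorAt.ext₂ {a b : ℤ} {x : X} (T : Triangle (DCoh.D X)) (hT : T ∈ distinguishedTriangles)
    (h₁ : RelTorAt f a b x T.obj₁) (h₃ : RelTorAt f a b x T.obj₃) : RelTorAt f a b x T.obj₂ := by
  haveI : ∀ M : ModuleCat.{u} (S.presheaf.stalk (f.base x)),
      DRing.HasLTensor (S.presheaf.stalk (f.base x)) M := DRingTor.hasLTensor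
  unfold RelTorAt at *
  rw [DRingTor.iff_ltensor] at h₁ h₃ ⊢
  exact fun M i hi => (DRingTor.two_of_three _ ((stalkD f x).map_distinguished T hT) M i (i + 1) rfl).1
    (h₁ M i hi) (h₃ M i hi)

/-- Pointwise tor amplitude gives a representative with terms flat over the base. -/
theorem rep_of_relTorAt {a b : ℤ} {K : DCoh.D X} (h : ∀ x, RelTorAt f a b x K) [Flat f] :
    DCoh.HasRelFlatAmplitudeIn f a b K := by
  let F := DerivedCategory.Q.objPreimage K
  let eF : DerivedCategory.Q.obj F ≅ K := DerivedCategory.Q.objObjPreimageIso K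
  have hex : ∀ x, ∀ i, i < a ∨ b < i →
      (((stalkOver f x).mapHomologicalComplex (ComplexShape.up ℤ)).obj F).ExactAt i := fun x i hi => by
    obtain ⟨E, hz, -, ⟨e⟩⟩ := h x
    rw [HomologicalComplex.exactAt_iff_isZero_homology]
    exact (ShortComplex.isZero_homology_of_isZero_X₂ (E.sc i) (hz i hi)).of_iso
      (((DerivedCategory.homologyFunctorFactors _ i).app _).symm ≪≫
        (DerivedCategory.homologyFunctor _ i).mapIso
          (((stalkOver f x).mapDerivedCategoryFactors.app F).symm ≪≫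
            (stalkD f x).mapIso eF ≪≫ e.symm) ≪≫
        (DerivedCategory.homologyFunctorFactors _ i).app E)
  have hF : ∀ i, i < a ∨ b < i → IsZero (F.homology i) := fun i hi => isZero_of_stalk _ fun x => by
    have h0 := (HomologicalComplex.exactAt_iff_isZero_homology _ i).1 (hex x i hi)
    have hs : Subsingleton ((stalkOver f x).obj (F.homology i) : Type u) :=
      ModuleCat.subsingleton_of_isZero (h0.of_iso ((F.sc i).mapHomologyIso (stalkOver f x)).symm)
    haveI : Subsingleton ((DerSch.stalkFunctor X x).obj (F.homology i) : Type u) := hs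
    exact ModuleCat.isZero_of_subsingleton _
  obtain ⟨P, ψ, hψ, hflat, hPb⟩ := (flatCover X).exists_bounded_resolution F b
    fun m hm => hF m (Or.inr hm)
  haveI := hψ
  haveI : IsIso (DerivedCategory.Q.map ψ) :=
    (DerivedCategory.isIso_Q_map_iff_quasiIso _ _).2 inferInstance
  have hSflat : ∀ i, FlatMod.IsFlatOver f (P.X i) := fun i x => by
    show FlatMod.IsFlatOverAt f (P.X i) x
    unfold FlatMod.IsFlatOverAt
    letI := FlatMod.moduleStalkOver f (P.X i) x
    letI : Algebra (S.presheaf.stalk (f.base x)) (X.presheaf.stalk x) :=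
      (f.stalkMap x).hom.toAlgebra
    haveI : IsScalarTower (S.presheaf.stalk (f.base x)) (X.presheaf.stalk x)
        ((P.X i).presheaf.stalk x) := IsScalarTower.of_algebraMap_smul fun _ _ => rfl
    haveI : Module.Flat (S.presheaf.stalk (f.base x)) (X.presheaf.stalk x) := Flat.stalkMap f x
    haveI : Module.Flat (X.presheaf.stalk x) ((P.X i).presheaf.stalk x) := hflat i x
    exact Module.Flat.trans _ (X.presheaf.stalk x) _
  have hop : FlatMod.IsFlatOver f (P.opcycles a) := fun x => by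
    rw [isFlatOverAt_iff']
    let Φ := stalkOver f x
    let P' := (Φ.mapHomologicalComplex (ComplexShape.up ℤ)).obj P
    have hf' : DRing.TermwiseFlat P' := fun i => (isFlatOverAt_iff' f _ x).1 (hSflat i x)
    have hb' : DRing.VanishesAbove P' b := fun i hi => Φ.map_isZero (hPb i hi)
    have hv : DRingTor.Van a b P' :=
      (DRingTor.iff_van (DRingTor.isKF_of_flat hf' hb')
        ((Φ.mapDerivedCategoryFactors.app P).symm ≪≫
          (stalkD f x).mapIso (asIso (DerivedCategory.Q.map ψ) ≪≫ eF))).1 (h x)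
    haveI : Module.Flat (S.presheaf.stalk (f.base x)) ((P.sc a).map Φ).opcycles :=
      DRingTor.flat_opcycles hf' a fun M => hv M (a - 1) (Or.inl (by omega))
    exact Module.Flat.of_linearEquiv ((P.sc a).mapOpcyclesIso Φ).symm.toLinearEquiv
  haveI : P.IsGE a := (CochainComplex.isGE_iff P a).2 fun i hi => by
    rw [HomologicalComplex.exactAt_iff_isZero_homology]
    exact (hF i (Or.inl hi)).of_iso (asIso (HomologicalComplex.homologyMap ψ i))
  let emb := ComplexShape.embeddingUpIntGE a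
  refine ⟨P.truncGE a, fun i hi => ?_, fun i => ?_,
    ⟨(asIso (DerivedCategory.Q.map (P.πTruncGE a))).symm ≪≫ asIso (DerivedCategory.Q.map ψ) ≪≫ eF⟩⟩
  · rcases hi with hi | hi
    · exact CochainComplex.isZero_of_isStrictlyGE _ a i hi
    · rcases lt_or_ge i a with hia | hia
      · exact CochainComplex.isZero_of_isStrictlyGE _ a i hia
      obtain ⟨n, rfl⟩ : ∃ n : ℕ, a + n = i := ⟨(i - a).toNat, by omega⟩
      rcases Nat.eq_zero_or_pos n with rfl | hn
      · refine IsZero.of_iso ?_ (HomologicalComplex.truncGEXIsoOpcycles P emb (i := 0) rfl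
          ((ComplexShape.boundaryGE_embeddingUpIntGE_iff a 0).2 rfl))
        exact IsZero.of_epi (P.pOpcycles (a + (0 : ℕ))) (hPb _ hi)
      · exact (hPb _ hi).of_iso (HomologicalComplex.truncGEXIso P emb (i := n) rfl
          (fun hb => by have := (ComplexShape.boundaryGE_embeddingUpIntGE_iff a n).1 hb; omega))
  · rcases lt_or_ge i a with hia | hia
    · exact isFlatOver_of_isZero f (CochainComplex.isZero_of_isStrictlyGE (P.truncGE a) a i hia)
    obtain ⟨n, rfl⟩ : ∃ n : ℕ, a + n = i := ⟨(i - a).toNat, by omega⟩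
    rcases Nat.eq_zero_or_pos n with rfl | hn
    · refine isFlatOver_of_iso f (HomologicalComplex.truncGEXIsoOpcycles P emb (i := 0) rfl
        ((ComplexShape.boundaryGE_embeddingUpIntGE_iff a 0).2 rfl)).symm ?_
      show FlatMod.IsFlatOver f (P.opcycles (a + (0 : ℕ)))
      rw [Nat.cast_zero, add_zero]
      exact hop
    · exact isFlatOver_of_iso f (HomologicalComplex.truncGEXIso P emb (i := n) rfl
        (fun hb => by have := (ComplexShape.boundaryGE_embeddingUpIntGE_iff a n).1 hb; omega)).symm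
          (hSflat _)

variable (f) in
/-- Locally of finite relative tor dimension, with charts. -/
def LocRel (K : DCoh.D X) : Prop :=
  ∀ x : X, ∃ (U : Scheme.{u}) (j : U ⟶ X) (_ : IsOpenImmersion j), x ∈ Set.range j.base ∧
    ∃ a b : ℤ, DCoh.HasRelFlatAmplitudeIn (j ≫ f) a b ((rho j).obj K)

lemma hasRelFlat_mono {a b a' b' : ℤ} (ha : a' ≤ a) (hb : b ≤ b') {K : DCoh.D X}
    (h : DCoh.HasRelFlatAmplitudeIn f a b K) : DCoh.HasRelFlatAmplitudeIn f a' b' K :=
  let ⟨E, hz, hf, e⟩ := h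
  ⟨E, fun i hi => hz i (by omega), hf, e⟩

lemma hasRelFlat_restrict {U W : Scheme.{u}} (j : U ⟶ X) [IsOpenImmersion j] (i : W ⟶ U)
    [IsOpenImmersion i] (k : W ⟶ X) [IsOpenImmersion k] (hk : i ≫ j = k) {a b : ℤ} {K : DCoh.D X}
    (h : DCoh.HasRelFlatAmplitudeIn (j ≫ f) a b ((rho j).obj K)) :
    DCoh.HasRelFlatAmplitudeIn (k ≫ f) a b ((rho k).obj K) := by
  obtain ⟨E, hz, hf, ⟨e⟩⟩ := h
  refine ⟨(rCx i).obj E, fun n hn => (Scheme.Modules.restrictFunctor i).map_isZero (hz n hn),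
    fun n => ?_, ⟨((rhoQ i).app E).symm ≪≫ (rho i).mapIso e ≪≫ rhoComp i j k hk K⟩⟩
  rw [← hk, Category.assoc]
  exact isFlatOver_restrict (j ≫ f) i (hf n)

theorem locHasFiniteRelTorDim_iff (K : DCoh.D X) :
    DCoh.LocHasFiniteRelTorDim f K ↔ LocRel f K := by
  constructor
  · intro h x
    obtain ⟨V, a, b, hx, hV⟩ := h x
    obtain ⟨E, hz, hf, ⟨e⟩⟩ := hV (DerivedCategory.Q.objPreimage K) ⟨repIso K⟩
    exact ⟨_, V.ι, inferInstance, ⟨⟨x, hx⟩, rfl⟩, a, b, E, hz, hf,
      ⟨e ≪≫ ((rhoQ V.ι).app _).symm ≪≫ (rho V.ι).mapIso (repIso K)⟩⟩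
  · intro h x
    obtain ⟨U, j, _, hx, a, b, hK⟩ := h x
    refine ⟨j.opensRange, a, b, hx, fun F ⟨eF⟩ => ?_⟩
    obtain ⟨E, hz, hf, ⟨e⟩⟩ := hasRelFlat_restrict j (rangeHom j) _ (rangeHom_fac j) hK
    exact ⟨E, hz, hf, ⟨e ≪≫ (rho _).mapIso eF.symm ≪≫ (rhoQ j.opensRange.ι).app F⟩⟩

lemma LocRel.shift {K : DCoh.D X} (h : LocRel f K) (n : ℤ) : LocRel f (K⟦n⟧) := fun x => by
  obtain ⟨U, j, _, hx, a, b, E, hz, hf, ⟨e⟩⟩ := h x
  exact ⟨U, j, _, hx, a - n, b - n, E⟦n⟧, fun i hi => hz (i + n) (by omega), fun i => hf (i + n),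
    ⟨(DerivedCategory.Q.commShiftIso n).app E ≪≫ (shiftFunctor (DCoh.D U) n).mapIso e ≪≫
      (((rho j).commShiftIso n).app K).symm⟩⟩

lemma LocRel.of_retract [Flat f] {K L : DCoh.D X} (h : Retract K L) (hL : LocRel f L) :
    LocRel f K := fun x => by
  obtain ⟨U, j, _, hx, a, b, hU⟩ := hL x
  exact ⟨U, j, _, hx, a, b,
    rep_of_relTorAt fun u => RelTorAt.of_retract (h.map (rho j)) (relTorAt_of_rep hU u)⟩

lemma LocRel.ext₂ [Flat f] (T : Triangle (DCoh.D X)) (hT : T ∈ distinguishedTriangles)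
    (h₁ : LocRel f T.obj₁) (h₃ : LocRel f T.obj₃) : LocRel f T.obj₂ := fun x => by
  obtain ⟨U, j₁, _, hx₁, a, b, hU⟩ := h₁ x
  obtain ⟨V, j₃, _, hx₃, c, d, hV⟩ := h₃ x
  obtain ⟨W, k, _, i₁, i₃, _, _, hw, f₁, f₃⟩ := exists_common j₁ j₃ hx₁ hx₃
  refine ⟨W, k, inferInstance, hw, min a c, max b d, rep_of_relTorAt fun w => ?_⟩
  exact RelTorAt.ext₂ ((rho k).mapTriangle.obj T) ((rho k).map_distinguished T hT)
    (relTorAt_of_rep (hasRelFlat_mono (min_le_left a c) (le_max_left b d)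
      (hasRelFlat_restrict j₁ i₁ k f₁ hU)) w)
    (relTorAt_of_rep (hasRelFlat_mono (min_le_right a c) (le_max_right b d)
      (hasRelFlat_restrict j₃ i₃ k f₃ hV)) w)

lemma LocRel.of_iso {K L : DCoh.D X} (e : K ≅ L) (h : LocRel f K) : LocRel f L := fun x => by
  obtain ⟨U, j, _, hx, a, b, E, hz, hf, ⟨e'⟩⟩ := h x
  exact ⟨U, j, _, hx, a, b, E, hz, hf, ⟨e' ≪≫ (rho j).mapIso e⟩⟩

lemma locRel_zero {K : DCoh.D X} (h : IsZero K) : LocRel f K := fun x =>
  ⟨X, 𝟙 X, inferInstance, ⟨x, rfl⟩, 0, 0, HomologicalComplex.zero,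
    fun _ _ => isZero_zero _, fun _ => isFlatOver_of_isZero _ (isZero_zero _),
    ⟨(DerivedCategory.Q.map_isZero HomologicalComplex.isZero_zero).iso ((rho (𝟙 X)).map_isZero h)⟩⟩

end Groth.Agent.PerfLocus7
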